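import Cfsg.Agent.Omega.CR.Dih.Node
import Cfsg.Agent.SplitTwo.ZSys

/-!
# Curtis–Richen for rank two systems without a Cartan matrix (`²F₄(q)`), part 2: the frame (helper328)

`Dh m X n n'` : a rank two root group system `X : ℤ → Subgroup Y` (`ZSys m X`), `n : j ↦ m + 2 - j`
(the reflection of the simple root `1`), `n' : j ↦ m - j` (the reflection of the simple root `m`).

* `Tor X` : the elements which normalise all `X j`;
* `Dh.rev`, `Dh.opp` : the reversed and the opposite system;  `Dh.nd` : the node of root `1`;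
* `Stg X m k g` and `step`, `op_step` : the words.
-/

set_option autoImplicit false
set_option linter.unusedSectionVars false

namespace Cfsg.Agent.Omega.CR.Dih

open Subgroup Cfsg.Agent.Omega.CR Cfsg.Agent.SplitTwo.ZS

variable {Y : Type*} [Group Y] {X : ℤ → Subgroup Y} {m : ℤ} {n n' : Y}

/-- the elements which normalise all root groups -/
def Tor (X : ℤ → Subgroup Y) : Subgroup Y where
  carrier := {t | ∀ j x, x ∈ X j ↔ t * x * t⁻¹ ∈ X j}
  one_mem' := fun j x => by rw [one_mul, inv_one, mul_one]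
  mul_mem' := by
    intro a b ha hb j x
    rw [hb j x, ha j (b * x * b⁻¹)]
    have e : a * (b * x * b⁻¹) * a⁻¹ = a * b * x * (a * b)⁻¹ := by group
    rw [e]
  inv_mem' := by
    intro a ha j x
    rw [ha j (a⁻¹ * x * a⁻¹⁻¹)]
    have e : a * (a⁻¹ * x * a⁻¹⁻¹) * a⁻¹ = x := by group
    rw [e]

theorem mem_tor {t : Y} : t ∈ Tor X ↔ ∀ j x, x ∈ X j ↔ t * x * t⁻¹ ∈ X j := Iff.rfl

theorem tor_X {t x : Y} (ht : t ∈ Tor X) {j : ℤ} (hx : x ∈ X j) : t * x * t⁻¹ ∈ X j := (ht j x).1 hx

theorem tor_J {t x : Y} (ht : t ∈ Tor X) {a b : ℤ} (hx : x ∈ J X a b) : t * x * t⁻¹ ∈ J X a b := by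
  have : J X a b ≤ (J X a b).comap (MulAut.conj t).toMonoidHom :=
    J_le fun k h1 h2 y hy => mem_J (tor_X ht hy) h1 h2
  exact this hx

/-- two elements with opposite actions -/
theorem tor_of_refl {c c' : ℤ} {g g' : Y} (h : Refl X c g) (h' : Refl X c' g') (hc : ∀ j, X (c - (c' - j)) = X j) :
    g * g' ∈ Tor X := by
  intro j x
  rw [h' j x, h (c' - j) (g' * x * g'⁻¹), hc]
  have e : g * (g' * x * g'⁻¹) * g⁻¹ = g * g' * x * (g * g')⁻¹ := by group
  rw [e]

theorem tor_conj {c : ℤ} {g t : Y} (h : Refl X c g) (ht : t ∈ Tor X) : g * t * g⁻¹ ∈ Tor X := by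
  intro j x
  have h1 := h.inv j x
  have h2 := ht (c - j) (g⁻¹ * x * g⁻¹⁻¹)
  have h3 := h (c - j) (t * (g⁻¹ * x * g⁻¹⁻¹) * t⁻¹)
  rw [h1, h2, h3, show c - (c - j) = j by ring]
  have e : g * (t * (g⁻¹ * x * g⁻¹⁻¹) * t⁻¹) * g⁻¹ = g * t * g⁻¹ * x * (g * t * g⁻¹)⁻¹ := by group
  rw [e]

/-- the frame -/
structure Dh (m : ℤ) (X : ℤ → Subgroup Y) (n n' : Y) : Prop where
  Z : ZSys m X
  r : Refl X (m + 2) n
  r' : Refl X m n'

namespace Dh

theorem nd (D : Dh m X n n') : Nd (Tor X) (J X 1 m) (X 1) (X (m + 1)) (J X 2 m) n := by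
  have hm := D.Z.two_lt
  refine
    { AU := X_le_J le_rfl (by omega)
      VU := J_mono (by omega) le_rfl
      dec := fun u hu => ?_
      inf := ?_
      nV := fun v hv => D.r.mem_J hv (by omega) (by omega)
      nV' := fun v hv => D.r.mem_J_inv hv (by omega) (by omega)
      AV := fun a ha v hv => D.Z.conj_X (a := 2) (b := m) (k := 1) (by omega) (by omega) (by omega) ha hv
      TA := fun t ht a ha => tor_X ht ha
      TV := fun t ht v hv => tor_J ht hv
      nT := fun t ht => tor_conj D.r ht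
      nT' := fun t ht => by
        have := tor_conj D.r.inv ht
        rwa [inv_inv] at this
      nn := tor_of_refl D.r D.r fun j => by rw [show m + 2 - (m + 2 - j) = j by ring]
      nA := fun a ha => D.r.mem' ha (by ring)
      nAi := fun a ha => D.r.mem_inv ha (by ring)
      nA' := fun a ha => D.r.mem' ha (by ring)
      nAi' := fun a ha => D.r.mem_inv ha (by ring)
      rk := ?_
      ne := D.Z.ne_bot 1 }
  · obtain ⟨x, hx, y, hy, e⟩ := D.Z.split_ll (a := 1) (b := m) (by omega) (by omega) hu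
    exact ⟨x, hx, y, hy, e⟩
  · rw [eq_bot_iff]
    rintro x ⟨hx, hx'⟩
    refine Subgroup.mem_bot.2 (D.Z.inter 1 x hx ?_)
    rw [show (1 : ℤ) + 1 = 2 by norm_num, show (1 : ℤ) + m - 1 = m by ring]
    exact hx'
  · intro x hx hx1
    obtain ⟨v, hv, v', hv', hr⟩ := D.Z.mu 1 x hx hx1
    have hper : X (1 - m) = X (m + 1) := by
      rw [← D.Z.per (1 - m), show 1 - m + 2 * m = m + 1 by ring]
    rw [hper] at hv hv'
    refine ⟨v⁻¹, inv_mem hv, v * x * v' * n, ?_, n⁻¹ * v'⁻¹ * n, D.r.mem_inv (inv_mem hv') (by ring), by group⟩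
    refine tor_of_refl hr D.r fun j => ?_
    rw [show 2 * 1 - m - (m + 2 - j) = j - 2 * m by ring, D.Z.per']

theorem rev (D : Dh m X n n')   : Dh m (fun k => X (m + 1 - k)) n' n where
  Z := D.Z.rev (m + 1)
  r := by
    intro j x
    have h := D.r' (m + 1 - j) x
    rw [show m - (m + 1 - j) = m + 1 - (m + 2 - j) by ring] at h
    exact h
  r' := by
    intro j x
    have h := D.r (m + 1 - j) x
    rw [show m + 2 - (m + 1 - j) = m + 1 - (m - j) by ring] at h
    exact h

theorem opp (D : Dh m X n n')   : Dh m (fun k => X (k + m)) n n' where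
  Z := D.Z.shift m
  r := by
    intro j x
    have h := D.r (j + m) x
    rw [← D.Z.per (m + 2 - (j + m)), show m + 2 - (j + m) + 2 * m = m + 2 - j + m by ring] at h
    exact h
  r' := by
    intro j x
    have h := D.r' (j + m) x
    rw [← D.Z.per (m - (j + m)), show m - (j + m) + 2 * m = m - j + m by ring] at h
    exact h

theorem rev_rev (X : ℤ → Subgroup Y) (m : ℤ) : (fun k => (fun k => X (m + 1 - k)) (m + 1 - k)) = X := by
  funext k
  show X (m + 1 - (m + 1 - k)) = X k
  rw [show m + 1 - (m + 1 - k) = k by ring]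

theorem opp_opp (D : Dh m X n n') : (fun k => (fun k => X (k + m)) (k + m)) = X := by
  funext k
  show X (k + m + m) = X k
  rw [show k + m + m = k + 2 * m by ring, D.Z.per]

theorem tor_rev (X : ℤ → Subgroup Y) (m : ℤ) : Tor (fun k => X (m + 1 - k)) = Tor X := by
  ext t
  rw [mem_tor, mem_tor]
  constructor
  · intro h j x
    have := h (m + 1 - j) x
    simp only [show m + 1 - (m + 1 - j) = j by ring] at this
    exact this
  · intro h j x
    exact h (m + 1 - j) x

theorem tor_opp (_D : Dh m X n n') : Tor (fun k => X (k + m)) = Tor X := by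
  ext t
  rw [mem_tor, mem_tor]
  constructor
  · intro h j x
    have := h (j - m) x
    simp only [show j - m + m = j by ring] at this
    exact this
  · intro h j x
    exact h (j + m) x

theorem J_rv (X : ℤ → Subgroup Y) (m : ℤ) : J (fun k => X (m + 1 - k)) 1 m = J X 1 m := by
  rw [ZSys.J_rev, show m + 1 - m = 1 by ring, show m + 1 - 1 = m by ring]

theorem nd' (D : Dh m X n n') : Nd (Tor X) (J X 1 m) (X m) (X 0) (J (fun k => X (m + 1 - k)) 2 m) n' := by
  have h := D.rev.nd
  rw [tor_rev, J_rv] at h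
  simp only [show m + 1 - 1 = m by ring, show m + 1 - (m + 1) = 0 by ring] at h
  exact h

/-- the node of root `1` for the opposite group -/
theorem ndo (D : Dh m X n n') : Nd (Tor X) (J (fun k => X (k + m)) 1 m) (X (m + 1)) (X 1)
    (J (fun k => X (k + m)) 2 m) n := by
  have h := D.opp.nd
  rw [tor_opp D] at h
  simp only [show 1 + m = m + 1 by ring, show m + 1 + m = 1 + 2 * m by ring, D.Z.per] at h
  exact h

/-- the node of root `m` for the opposite group -/
theorem ndo' (D : Dh m X n n') : Nd (Tor X) (J (fun k => X (k + m)) 1 m) (X 0) (X m)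
    (J (fun k => (fun k => X (k + m)) (m + 1 - k)) 2 m) n' := by
  have h := D.opp.nd'
  rw [tor_opp D] at h
  have e : X (m + m) = X 0 := by rw [show m + m = 0 + 2 * m by ring, D.Z.per]
  simp only [e, zero_add] at h
  exact h

end Dh

/-! ### words -/

/-- `g` comes from a word of length `k` with last letter `1`: `g⁻¹` maps the opposites of `1, …, k` and the roots
`k + 1, …, m` to positive roots -/
structure Stg (X : ℤ → Subgroup Y) (m k : ℤ) (g : Y) : Prop where
  arc : ∀ j, 1 ≤ j → j ≤ k → ∀ x ∈ X (j + m), g⁻¹ * x * g ∈ J X 1 m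
  out : ∀ j, k < j → j ≤ m → ∀ x ∈ X j, g⁻¹ * x * g ∈ J X 1 m

theorem stg_zero (X : ℤ → Subgroup Y) (m : ℤ) : Stg X m 0 1 where
  arc := fun j h1 h2 => by omega
  out := fun j h1 h2 x hx => by
    rw [inv_one, one_mul, mul_one]
    exact mem_J hx (by omega) h2

theorem Stg.step {k : ℤ} {g : Y} (D : Dh m X n n') (h : Stg (fun k => X (m + 1 - k)) m k g) (hkm : k < m) :
    Stg X m (k + 1) (n * g) where
  arc := by
    intro j h1 h2 x hx
    have e : (n * g)⁻¹ * x * (n * g) = g⁻¹ * (n⁻¹ * x * n) * g := by group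
    rw [e, ← Dh.J_rv X m]
    have h3 : n⁻¹ * x * n ∈ X (2 - j) := D.r.mem_inv hx (by ring)
    rcases eq_or_lt_of_le h1 with h4 | h4
    · refine h.out m hkm le_rfl _ ?_
      show n⁻¹ * x * n ∈ X (m + 1 - m)
      rw [show m + 1 - m = 2 - j by omega]
      exact h3
    · refine h.arc (j - 1) (by omega) (by omega) _ ?_
      show n⁻¹ * x * n ∈ X (m + 1 - (j - 1 + m))
      rw [show m + 1 - (j - 1 + m) = 2 - j by ring]
      exact h3
  out := by
    intro j h1 h2 x hx
    have e : (n * g)⁻¹ * x * (n * g) = g⁻¹ * (n⁻¹ * x * n) * g := by group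
    rw [e, ← Dh.J_rv X m]
    refine h.out (j - 1) (by omega) (by omega) _ ?_
    show n⁻¹ * x * n ∈ X (m + 1 - (j - 1))
    rw [show m + 1 - (j - 1) = m + 2 - j by ring]
    exact D.r.mem_inv hx (by ring)

variable {F V : Type*} [Field F] [AddCommGroup V] [Module F V] (ρ : Y →* Module.End F V) [Finite Y]

/-- **one more letter** -/
theorem op_step (D : Dh m X n n') {k : ℤ} (hk : 0 ≤ k) (hkm : k < m) (g : Y) (v : V) :
    tt ρ (X 1) n (sg ρ (J (fun k => X (m + 1 - k)) 1 k) (ρ g v)) = sg ρ (J X 1 (k + 1)) (ρ (n * g) v) := by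
  have hm := D.Z.two_lt
  have h1 : (J (fun k => X (m + 1 - k)) 1 k).map (MulAut.conj n).toMonoidHom = J X 2 (k + 1) := by
    rw [ZSys.J_rev]
    refine map_conj_eq (fun a ha => D.r.mem_J ha (by omega) (by omega)) fun b hb => ?_
    exact D.r.mem_J_inv hb (by omega) (by omega)
  rw [tt_apply, rho_sg, h1, ← rho_mul]
  symm
  refine sg_mul ρ (X_le_J le_rfl (by omega)) (J_mono (by omega) le_rfl) ?_ (fun a ha => ?_) _
  · rw [eq_bot_iff]
    rintro x ⟨hx, hx'⟩
    refine Subgroup.mem_bot.2 (D.Z.inter 1 x hx (J_mono (by omega) (by omega) hx'))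
  · obtain ⟨x, hx, y, hy, e⟩ := D.Z.split_ll (a := 1) (b := k + 1) (by omega) (by omega) ha
    exact ⟨x, hx, y, hy, e⟩

end Cfsg.Agent.Omega.CR.Dih
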