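import Cfsg.Agent.Omega.CR.Dih.Frame

/-!
# Curtis–Richen for rank two systems without a Cartan matrix (`²F₄(q)`), part 3 (helper328)

`D : Dh m X n n'`, `ρ : Y →* End V`, `V` over a field of characteristic `p`, the `X j` are `p`-groups.

* `exists_good` : a simple `Tor X`-invariant subspace of `V^U`, invariant under both operators;
* `simp` : **`V` irreducible (for a group which contains `X 0, X 1, X m, X (m+1)`, `n`, `n'`, `Tor X`) ⟹ `V^U` is a simple
  `Tor X`-module**;  `eq_of_le` : a nonzero `Tor X`-invariant subspace of `V^U` is `V^U`.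
-/

set_option autoImplicit false
set_option linter.unusedSectionVars false

namespace Cfsg.Agent.Omega.CR.Dih

open Subgroup Cfsg.Agent.Omega.CR Cfsg.Agent.SplitTwo.ZS

variable {Y : Type*} [Group Y] {m : ℤ} {F V : Type*} [Field F] [AddCommGroup V] [Module F V]
  (ρ : Y →* Module.End F V) [Finite Y] {p : ℕ} [Fact p.Prime] [CharP F p]

/-- simple, fixed by `U`, stable under both operators -/
structure Good (X : ℤ → Subgroup Y) (m : ℤ) (n n' : Y) (N : Submodule F V) : Prop where
  simp : Simp ρ (Tor X) N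
  fix : N ≤ fx ρ (J X 1 m)
  st : ∀ v ∈ N, tt ρ (X 1) n v ∈ N
  st' : ∀ v ∈ N, tt ρ (X m) n' v ∈ N

omit [Fact p.Prime] [CharP F p] in
theorem Good.rev {X : ℤ → Subgroup Y} {n n' : Y} {N : Submodule F V} (h : Good ρ (fun k => X (m + 1 - k)) m n' n N) :
    Good ρ X m n n' N where
  simp := by have := h.simp; rwa [Dh.tor_rev] at this
  fix := by have := h.fix; rwa [Dh.J_rv] at this
  st := by
    have := h.st'
    simp only [show m + 1 - m = 1 by ring] at this
    exact this
  st' := by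
    have := h.st
    simp only [show m + 1 - 1 = m by ring] at this
    exact this

variable {X : ℤ → Subgroup Y} {n n' : Y}

theorem two_J (D : Dh m X n n') (hp : ∀ j, IsPGroup p (X j)) : ∀ (c : ℕ) (a b : ℤ), b + 1 - a = c → b < a + m →
    IsPGroup p (J X a b : Subgroup Y) := by
  intro c
  induction c with
  | zero =>
    intro a b h1 h2
    rw [J_empty (by omega)]
    exact IsPGroup.of_bot
  | succ c ih =>
    intro a b h1 h2
    have h3 := ih (a + 1) b (by push_cast at h1; omega) (by omega)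
    have h4 : X a ≤ normalizer (J X (a + 1) b : Set Y) := by
      have := D.Z.le_normalizer (a := a + 1) (b := b) (by omega)
      exact (X_le_J (by omega) (by push_cast at h1; omega)).trans this
    have h5 : J X a b ≤ X a ⊔ J X (a + 1) b := by
      refine J_le fun k h6 h7 => ?_
      rcases eq_or_lt_of_le h6 with h8 | h8
      · rw [← h8]; exact le_sup_left
      · exact (X_le_J (by omega) h7).trans le_sup_right
    exact (IsPGroup.to_sup_of_normal_right' (hp a) h3 h4).to_le h5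

theorem two_U (D : Dh m X n n') (hp : ∀ j, IsPGroup p (X j)) : IsPGroup p (J X 1 m : Subgroup Y) := by
  have hm := D.Z.two_lt
  exact two_J D hp m.toNat 1 m (by omega) (by omega)

omit [Fact p.Prime] [CharP F p] in
theorem inv_fx : Ivt ρ (Tor X) (fx ρ (J X 1 m)) := by
  intro t ht v hv u hu
  have h1 : u * t = t * (t⁻¹ * u * t) := by group
  rw [← rho_mul, h1, rho_mul]
  congr 1
  have := tor_J (inv_mem ht) hu
  rw [inv_inv] at this
  exact hv _ this

/-- the induction: a nonzero `(∑_{u ∈ J 1 k} u) g N₀`, stable under the last letter, gives a good subspace -/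
theorem exists_good_aux : ∀ (c : ℕ) (X : ℤ → Subgroup Y) (n n' : Y), Dh m X n n' →
    (∀ j, IsPGroup p (X j)) → ∀ (k : ℤ) (g : Y) (N₀ N : Submodule F V), 0 ≤ k → m - k = c → Stg X m k g →
      N₀ ≤ fx ρ (J X 1 m) → (∀ w ∈ N, ∃ x ∈ N₀, sg ρ (J X 1 k) (ρ g x) = w) → Simp ρ (Tor X) N → N ≤ fx ρ (J X 1 m) →
        (∀ v ∈ N, tt ρ (X 1) n v ∈ N) → ∃ L : Submodule F V, Good ρ X m n n' L := by
  intro c
  induction c with
  | zero =>
    intro X n n' D hp k g N₀ N hk0 hk hst h0 hN hs hf h1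
    have hkm : k = m := by push_cast at hk; omega
    subst hkm
    refine ⟨N, hs, hf, h1, fun w hw => ?_⟩
    obtain ⟨x, hx, e⟩ := hN w hw
    rw [← e]
    refine D.nd'.w0_mem ρ (hp 0) (D.Z.ne_bot 0) (fun b hb => ?_) (h0 hx) hs.inv (by rw [e]; exact hw)
    have hm := D.Z.two_lt
    refine hst.arc k (by omega) le_rfl b ?_
    rw [show k + k = 0 + 2 * k by ring, D.Z.per]
    exact hb
  | succ c ih =>
    intro X n n' D hp k g N₀ N hk0 hk hst h0 hN hs hf h1
    have hkm : k < m := by push_cast at hk; omega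
    by_cases h2 : N.map (tt ρ (X m) n') = ⊥
    · refine ⟨N, hs, hf, h1, fun v hv => ?_⟩
      have h3 : tt ρ (X m) n' v ∈ N.map (tt ρ (X m) n') := ⟨v, hv, rfl⟩
      rw [h2, Submodule.mem_bot] at h3
      rw [h3]
      exact N.zero_mem
    · have hs1 : Simp ρ (Tor X) (N.map (tt ρ (X m) n')) := D.nd'.simp_map ρ hs h2
      have hf1 : N.map (tt ρ (X m) n') ≤ fx ρ (J X 1 m) := by
        rintro _ ⟨v, hv, rfl⟩
        exact D.nd'.tt_fix ρ (hf hv)
      have hst1 : Stg (fun k => X (m + 1 - k)) m (k + 1) (n' * g) := by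
        refine Stg.step D.rev ?_ hkm
        rw [Dh.rev_rev]
        exact hst
      have key : ∀ x, tt ρ (X m) n' (sg ρ (J X 1 k) (ρ g x)) =
          sg ρ (J (fun k => X (m + 1 - k)) 1 (k + 1)) (ρ (n' * g) x) := by
        intro x
        have := op_step ρ D.rev hk0 hkm g x
        rw [Dh.rev_rev] at this
        simp only [show m + 1 - 1 = m by ring] at this
        exact this
      obtain ⟨L, hL⟩ := ih (fun k => X (m + 1 - k)) n' n D.rev (fun j => hp _) (k + 1) (n' * g) N₀
        (N.map (tt ρ (X m) n')) (by omega) (by push_cast at hk; omega) hst1 (by rw [Dh.J_rv]; exact h0) (by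
          rintro _ ⟨w, hw, rfl⟩
          obtain ⟨x, hx, e⟩ := hN w hw
          refine ⟨x, hx, ?_⟩
          rw [← e, key]) (by rw [Dh.tor_rev]; exact hs1) (by rw [Dh.J_rv]; exact hf1) (by
          have h5 := D.nd'.tt_sq_map ρ (hp m) hs.inv hf
          simp only [show m + 1 - 1 = m by ring]
          exact h5)
      exact ⟨L, hL.rev⟩

/-- **There is a good subspace.** -/
theorem exists_good [FiniteDimensional F V] [Nontrivial V] (D : Dh m X n n') (hp : ∀ j, IsPGroup p (X j)) :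
    ∃ N : Submodule F V, Good ρ X m n n' N := by
  classical
  have hm := D.Z.two_lt
  have h0 : fx ρ (J X 1 m) ≠ ⊥ := by
    obtain ⟨v, -, hv0, hv⟩ := exists_fixed ρ (two_U D hp) (⊤ : Submodule F V) (fun _ _ _ _ => trivial) top_ne_bot
    intro h1
    have h2 : v ∈ fx ρ (J X 1 m) := hv
    rw [h1, Submodule.mem_bot] at h2
    exact hv0 h2
  obtain ⟨L, ⟨hLN, hL0, hL⟩, hmin⟩ := (wellFounded_lt (α := Submodule F V)).has_min
    {L : Submodule F V | L ≤ fx ρ (J X 1 m) ∧ L ≠ ⊥ ∧ Ivt ρ (Tor X) L} ⟨_, le_rfl, h0, inv_fx ρ⟩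
  have hs : Simp ρ (Tor X) L := by
    refine ⟨hL0, hL, ?_⟩
    intro L' hL' hi
    by_cases h1 : L' = ⊥
    · exact Or.inl h1
    · right
      by_contra hne
      exact hmin L' ⟨hL'.trans hLN, h1, hi⟩ (lt_of_le_of_ne hL' hne)
  by_cases h2 : L.map (tt ρ (X 1) n) = ⊥
  · refine exists_good_aux ρ m.toNat X n n' D hp 0 1 L L le_rfl (by omega) (stg_zero X m) hLN (fun w hw => ?_) hs hLN
      fun v hv => ?_
    · refine ⟨w, hw, ?_⟩
      rw [J_empty (by norm_num), sg_bot, rho_one]
    · have h3 : tt ρ (X 1) n v ∈ L.map (tt ρ (X 1) n) := ⟨v, hv, rfl⟩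
      rw [h2, Submodule.mem_bot] at h3
      rw [h3]
      exact L.zero_mem
  · have hst1 : Stg X m (0 + 1) (n * 1) := Stg.step D (stg_zero _ m) (by omega)
    refine exists_good_aux ρ (m - 1).toNat X n n' D hp (0 + 1) (n * 1) L (L.map (tt ρ (X 1) n)) (by omega) (by omega)
      hst1 hLN ?_ (D.nd.simp_map ρ hs h2) ?_ (D.nd.tt_sq_map ρ (hp 1) hs.inv hLN)
    · rintro _ ⟨w, hw, rfl⟩
      refine ⟨w, hw, ?_⟩
      rw [← op_step ρ D le_rfl (by omega) 1 w, J_empty (by norm_num), sg_bot, rho_one]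
    · rintro _ ⟨v, hv, rfl⟩
      exact D.nd.tt_fix ρ (hLN hv)

variable (G : Subgroup Y) (hG : ∀ R : Subgroup Y, J X (1 + m) (m + m) ≤ R → Tor X ≤ R → n ∈ R → n' ∈ R → G ≤ R)

omit [CharP F p] [Fact p.Prime] in
include hG in
/-- `k[U⁻] N` is `G`-invariant -/
theorem Good.gen (D : Dh m X n n') {N : Submodule F V} (h : Good ρ X m n n' N)
    (hirr : ∀ L : Submodule F V, Ivt ρ G L → L = ⊥ ∨ L = ⊤) : Sp ρ (J (fun k => X (k + m)) 1 m) N = ⊤ := by
  refine (hirr _ (Ivt_of_le ρ (hG _ ?_ ?_ ?_ ?_))).resolve_left fun h0 => h.simp.ne ?_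
  · rw [← ZSys.J_shift]
    intro u hu
    exact mem_stS ρ (fun v hv => rho_mem_Sp ρ hu hv) (fun v hv => rho_mem_Sp ρ (inv_mem hu) hv)
  · exact T_stable ρ h.simp.inv fun t ht c hc => by
      have : t ∈ Tor (fun k => X (k + m)) := by rw [Dh.tor_opp D]; exact ht
      exact tor_J this hc
  · have hn : ∀ v ∈ Sp ρ (J (fun k => X (k + m)) 1 m) N, ρ n v ∈ Sp ρ (J (fun k => X (k + m)) 1 m) N :=
      fun v hv => stable ρ D.nd D.ndo h.simp h.fix h.st hv
    refine mem_stS ρ hn fun v hv => ?_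
    have e : ρ n⁻¹ v = ρ n (ρ (n⁻¹ * n⁻¹) v) := by
      rw [← rho_mul]; congr 2; group
    rw [e]
    have ht : n⁻¹ * n⁻¹ ∈ Tor X := by
      have := inv_mem D.nd.nn
      rwa [mul_inv_rev] at this
    refine hn _ ?_
    have h3 := T_stable ρ (C := J (fun k => X (k + m)) 1 m) h.simp.inv fun t ht c hc => by
      have : t ∈ Tor (fun k => X (k + m)) := by rw [Dh.tor_opp D]; exact ht
      exact tor_J this hc
    exact Ivt_of_le ρ h3 _ ht v hv
  · have hn : ∀ v ∈ Sp ρ (J (fun k => X (k + m)) 1 m) N, ρ n' v ∈ Sp ρ (J (fun k => X (k + m)) 1 m) N :=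
      fun v hv => stable ρ D.nd' D.ndo' h.simp h.fix h.st' hv
    refine mem_stS ρ hn fun v hv => ?_
    have e : ρ n'⁻¹ v = ρ n' (ρ (n'⁻¹ * n'⁻¹) v) := by
      rw [← rho_mul]; congr 2; group
    rw [e]
    have ht : n'⁻¹ * n'⁻¹ ∈ Tor X := by
      have := inv_mem D.nd'.nn
      rwa [mul_inv_rev] at this
    refine hn _ ?_
    have h3 := T_stable ρ (C := J (fun k => X (k + m)) 1 m) h.simp.inv fun t ht c hc => by
      have : t ∈ Tor (fun k => X (k + m)) := by rw [Dh.tor_opp D]; exact ht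
      exact tor_J this hc
    exact Ivt_of_le ρ h3 _ ht v hv
  · rw [eq_bot_iff, ← h0]
    exact le_Sp ρ

variable (hG' : ∀ R : Subgroup Y, J X 1 m ≤ R → Tor X ≤ R → n ∈ R → n' ∈ R → G ≤ R)

include hG hG' in
/-- good subspaces are all of `V^U` -/
theorem Good.eq_fx [FiniteDimensional F V] [Nontrivial V] (D : Dh m X n n') (hp : ∀ j, IsPGroup p (X j))
    {N : Submodule F V} (hN : Good ρ X m n n' N)
    (hirr : ∀ L : Submodule F V, Ivt ρ G L → L = ⊥ ∨ L = ⊤) : N = fx ρ (J X 1 m) := by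
  have hnt : Nontrivial (Module.Dual F V) := inferInstance
  obtain ⟨N', hN'⟩ := exists_good (dualRep ρ) D.opp (fun j => hp _)
  have h1 := hN.gen ρ G hG D hirr
  have h2 := hN'.gen (dualRep ρ) G (by
    intro R h3 h4 h5 h6
    refine hG' R ?_ (by rwa [Dh.tor_opp D] at h4) h5 h6
    rw [ZSys.J_shift, show 1 + m + m = 1 + 2 * m by ring, show m + m + m = m + 2 * m by ring] at h3
    refine le_trans ?_ h3
    refine J_le fun k h7 h8 => ?_
    rw [← D.Z.per k]
    exact X_le_J (by omega) (by omega)) D.opp (dual_irr ρ hirr)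
  rw [Dh.opp_opp D] at h2
  have h3 : N' ≤ fx (dualRep ρ) (J (fun k => X (k + m)) 1 m) := hN'.fix
  let Φ : fx (dualRep ρ) (J (fun k => X (k + m)) 1 m) →ₗ[F] Module.Dual F N :=
    { toFun := fun φ => φ.1.comp N.subtype
      map_add' := fun _ _ => rfl
      map_smul' := fun _ _ => rfl }
  have hΦ : Function.Injective Φ := by
    rw [injective_iff_map_eq_zero]
    intro φ hφ
    apply Subtype.ext
    refine eq_zero_of_Sp ρ h1 φ.2 fun v hv => ?_
    exact congrArg (fun ψ : Module.Dual F N => ψ ⟨v, hv⟩) hφ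
  let Ψ : fx ρ (J X 1 m) →ₗ[F] Module.Dual F N' :=
    { toFun := fun v =>
        { toFun := fun φ => φ.1 v.1
          map_add' := fun _ _ => rfl
          map_smul' := fun _ _ => rfl }
      map_add' := fun v w => by
        ext φ
        exact map_add φ.1 v.1 w.1
      map_smul' := fun c v => by
        ext φ
        exact map_smul φ.1 c v.1 }
  have hΨ : Function.Injective Ψ := by
    rw [injective_iff_map_eq_zero]
    intro v hv
    apply Subtype.ext
    refine eq_zero_of_Sp' ρ h2 v.2 fun φ hφ => ?_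
    exact congrArg (fun ψ : Module.Dual F N' => ψ ⟨φ, hφ⟩) hv
  have e1 := LinearMap.finrank_le_finrank_of_injective hΦ
  have e2 := LinearMap.finrank_le_finrank_of_injective hΨ
  have e1 := e1.trans (Subspace.dual_finrank_eq (K := F) (V := N)).le
  have e2 := e2.trans (Subspace.dual_finrank_eq (K := F) (V := N')).le
  have e3 := Submodule.finrank_mono h3
  exact Submodule.eq_of_le_of_finrank_le hN.fix (e2.trans (e3.trans e1))

include hG hG' in
/-- **`V^U` is a simple `Tor X`-module.** -/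
theorem simp [FiniteDimensional F V] [Nontrivial V] (D : Dh m X n n') (hp : ∀ j, IsPGroup p (X j))
    (hirr : ∀ L : Submodule F V, Ivt ρ G L → L = ⊥ ∨ L = ⊤) : Simp ρ (Tor X) (fx ρ (J X 1 m)) := by
  obtain ⟨N, hN⟩ := exists_good ρ D hp
  rw [← hN.eq_fx ρ G hG hG' D hp hirr]
  exact hN.simp

include hG hG' in
/-- **A nonzero `Tor X`-invariant subspace of `V^U` is `V^U`.** -/
theorem eq_of_le [FiniteDimensional F V] (D : Dh m X n n') (hp : ∀ j, IsPGroup p (X j))
    (hirr : ∀ L : Submodule F V, Ivt ρ G L → L = ⊥ ∨ L = ⊤) {N : Submodule F V} (hN0 : N ≠ ⊥)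
    (hN : N ≤ fx ρ (J X 1 m)) (hT : Ivt ρ (Tor X) N) : N = fx ρ (J X 1 m) := by
  have : Nontrivial V := by
    obtain ⟨v, -, hv⟩ := (Submodule.ne_bot_iff N).1 hN0
    exact nontrivial_of_ne v 0 hv
  exact ((simp ρ G hG hG' D hp hirr).simple N hN hT).resolve_left hN0

end Cfsg.Agent.Omega.CR.Dih
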