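import Cfsg.Agent.Omega.CR.Fam

/-!
# Curtis–Richen for rank two systems without a Cartan matrix (`²F₄(q)`), part 1: one node (helper328)

`Nd T U A A' V n` : `U = A V`, `V` normalised by `A`, `n`; `n` swaps `A`, `A'`, normalises the torus `T`, and
`x n ∈ A' T A` for `1 ≠ x ∈ A`.  `tt ρ A n = (∑_{x ∈ A} x) n`.

* `Nd.tt_fix` : `tt` preserves `V^U`;  `Nd.tt_sq` : `tt (tt N) ⊆ tt N`;
* `Nd.w0_mem` : `tt` preserves `(∑_{u ∈ U} u) g N` if `g⁻¹ A' g ≤ U`;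
* `Nd.n_mem` : `tt N ⊆ N` gives `n N ⊆ k[A'] N`;  `Nd.stable` : then `k[U'] N` is `n`-invariant.
-/

set_option autoImplicit false
set_option linter.unusedSectionVars false

namespace Cfsg.Agent.Omega.CR.Dih

open Subgroup Cfsg.Agent.Omega.CR

variable {Y : Type*} [Group Y]

/-- a rank one node -/
structure Nd (T U A A' V : Subgroup Y) (n : Y) : Prop where
  AU : A ≤ U
  VU : V ≤ U
  dec : ∀ u ∈ U, ∃ a ∈ A, ∃ v ∈ V, u = a * v
  inf : A ⊓ V = ⊥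
  nV : ∀ v ∈ V, n * v * n⁻¹ ∈ V
  nV' : ∀ v ∈ V, n⁻¹ * v * n ∈ V
  AV : ∀ a ∈ A, ∀ v ∈ V, a * v * a⁻¹ ∈ V
  TA : ∀ t ∈ T, ∀ a ∈ A, t * a * t⁻¹ ∈ A
  TV : ∀ t ∈ T, ∀ v ∈ V, t * v * t⁻¹ ∈ V
  nT : ∀ t ∈ T, n * t * n⁻¹ ∈ T
  nT' : ∀ t ∈ T, n⁻¹ * t * n ∈ T
  nn : n * n ∈ T
  nA : ∀ a ∈ A, n * a * n⁻¹ ∈ A'
  nAi : ∀ a ∈ A, n⁻¹ * a * n ∈ A'
  nA' : ∀ a ∈ A', n * a * n⁻¹ ∈ A
  nAi' : ∀ a ∈ A', n⁻¹ * a * n ∈ A
  rk : ∀ x ∈ A, x ≠ 1 → ∃ y ∈ A', ∃ t ∈ T, ∃ b ∈ A, x * n = y * t * b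
  ne : A ≠ ⊥

theorem map_conj_eq {A B : Subgroup Y} {g : Y} (h : ∀ a ∈ A, g * a * g⁻¹ ∈ B) (h' : ∀ b ∈ B, g⁻¹ * b * g ∈ A) :
    A.map (MulAut.conj g).toMonoidHom = B := by
  apply le_antisymm
  · rintro _ ⟨a, ha, rfl⟩
    exact h a ha
  · intro b hb
    refine ⟨_, h' b hb, ?_⟩
    change g * (g⁻¹ * b * g) * g⁻¹ = b
    group

variable {k V : Type*} [Field k] [AddCommGroup V] [Module k V] (ρ : Y →* Module.End k V)

theorem p_dvd {p : ℕ} [Fact p.Prime] [Finite Y] {A : Subgroup Y} (hA : IsPGroup p A) (hne : A ≠ ⊥) : p ∣ Nat.card A := by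
  obtain ⟨j, hj⟩ := (IsPGroup.iff_card (p := p)).1 hA
  rw [hj]
  have : j ≠ 0 := by
    rintro rfl
    rw [pow_zero] at hj
    exact hne (Subgroup.card_eq_one.1 hj)
  exact dvd_pow_self p this

variable [Finite Y]

/-- the operator `(∑_{x ∈ A} x) n` -/
noncomputable def tt (A : Subgroup Y) (n : Y) : Module.End k V := sg ρ A * ρ n

theorem tt_apply (A : Subgroup Y) (n : Y) (v : V) : tt ρ A n v = sg ρ A (ρ n v) := rfl

namespace Nd

variable {T U A A' W : Subgroup Y} {n : Y} (D : Nd T U A A' W n)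
include D

theorem rho_tt {t : Y} (ht : t ∈ T) (v : V) : ρ t (tt ρ A n v) = tt ρ A n (ρ (n⁻¹ * t * n) v) := by
  rw [tt_apply, tt_apply]
  have h1 : A.map (MulAut.conj t).toMonoidHom = A := map_conj_eq (D.TA t ht) fun b hb => by
    have := D.TA t⁻¹ (inv_mem ht) b hb
    rwa [inv_inv] at this
  rw [rho_sg, h1, ← rho_mul, ← rho_mul]
  congr 3
  group

theorem tt_rho {t : Y} (ht : t ∈ T) (v : V) : tt ρ A n (ρ t v) = ρ (n * t * n⁻¹) (tt ρ A n v) := by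
  rw [D.rho_tt ρ (D.nT t ht)]
  congr 3
  group

theorem simp_map {N : Submodule k V} (hN : Simp ρ T N) (h0 : N.map (tt ρ A n) ≠ ⊥) : Simp ρ T (N.map (tt ρ A n)) :=
  hN.map ρ _ (fun t ht => ⟨_, D.nT' t ht, fun v _ => D.rho_tt ρ ht v⟩)
    (fun t ht => ⟨_, D.nT t ht, fun v _ => D.tt_rho ρ ht v⟩) h0

/-- `tt` preserves `V^U` -/
theorem tt_fix {v : V} (hv : v ∈ fx ρ U) : tt ρ A n v ∈ fx ρ U := by
  have key : ∀ g ∈ W, ρ g (tt ρ A n v) = tt ρ A n v := by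
    intro g hg
    classical
    let _ := Fintype.ofFinite A
    rw [tt_apply, sg_def, map_sum]
    refine Finset.sum_congr rfl fun x _ => ?_
    have h1 : (x : Y)⁻¹ * g * x ∈ W := by
      have := D.AV _ (inv_mem x.2) g hg
      rwa [inv_inv] at this
    have h2 := D.VU (D.nV' _ h1)
    have h4 : g * ((x : Y) * n) = (x : Y) * n * (n⁻¹ * ((x : Y)⁻¹ * g * x) * n) := by group
    rw [← rho_mul ρ (x : Y), ← rho_mul, h4, rho_mul, hv _ h2]
  rw [mem_fx]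
  intro u hu
  obtain ⟨a, ha, w, hw, rfl⟩ := D.dec u hu
  rw [rho_mul, key w hw]
  exact rho_sg_of_mem ρ _ ha _

theorem A_fix {v : V} (hv : v ∈ fx ρ U) {x : Y} (hx : x ∈ A) : ρ x v = v := hv x (D.AU hx)

/-- `x ∈ A#` : `n x n = a n t b` -/
theorem n_mul_n {x : Y} (hx : x ∈ A) (hx1 : x ≠ 1) : ∃ a ∈ A, ∃ t ∈ T, ∃ b ∈ A, n * x * n = a * n * t * b := by
  obtain ⟨y, hy, t, ht, b, hb, e⟩ := D.rk x hx hx1
  refine ⟨n * y * n⁻¹, D.nA' y hy, t, ht, b, hb, ?_⟩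
  rw [mul_assoc n, e]; group

/-- `tt (tt N) ⊆ tt N` for a `T`-invariant `N ⊆ V^U` -/
theorem tt_sq {p : ℕ} [Fact p.Prime] [CharP k p] (hp : IsPGroup p A) {N : Submodule k V} (hN : Ivt ρ T N)
    (hU : N ≤ fx ρ U) {v : V} (hv : v ∈ N) : ∃ v' ∈ N, tt ρ A n (tt ρ A n v) = tt ρ A n v' := by
  classical
  let _ := Fintype.ofFinite A
  have key : ∀ x : A, ∃ v' ∈ N, sg ρ A (ρ n (ρ (x : Y) (ρ n v))) = tt ρ A n v' := by
    intro x
    by_cases hx1 : (x : Y) = 1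
    · refine ⟨0, N.zero_mem, ?_⟩
      rw [hx1, rho_one, ← rho_mul ρ n, map_zero, sg_fixed ρ (p_dvd hp D.ne) fun a ha => D.A_fix ρ (hU
        (hN _ D.nn v hv)) ha]
    · obtain ⟨a, ha, t, ht, b, hb, e⟩ := D.n_mul_n x.2 hx1
      refine ⟨ρ t v, hN t ht v hv, ?_⟩
      rw [← rho_mul, ← rho_mul, e, rho_mul, D.A_fix ρ (hU hv) hb, rho_mul, rho_mul, sg_rho_of_mem ρ _ ha,
        tt_apply]
  choose c hc hc' using key
  refine ⟨∑ x, c x, N.sum_mem fun x _ => hc x, ?_⟩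
  rw [map_sum]
  have h1 : tt ρ A n (tt ρ A n v) = ∑ x : A, sg ρ A (ρ n (ρ (x : Y) (ρ n v))) := by
    rw [tt_apply ρ A n (tt ρ A n v), tt_apply ρ A n v, sg_def ρ A (ρ n v), map_sum, map_sum]
  rw [h1]
  exact Finset.sum_congr rfl fun x _ => hc' x

/-- `tt N ≤ N` passes to `tt N` -/
theorem tt_sq_map {p : ℕ} [Fact p.Prime] [CharP k p] (hp : IsPGroup p A) {N : Submodule k V} (hN : Ivt ρ T N)
    (hU : N ≤ fx ρ U) : ∀ w ∈ N.map (tt ρ A n), tt ρ A n w ∈ N.map (tt ρ A n) := by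
  rintro _ ⟨v, hv, rfl⟩
  obtain ⟨v', hv', e⟩ := D.tt_sq ρ hp hN hU hv
  rw [e]
  exact ⟨v', hv', rfl⟩

/-- `sg U = sg W ∘ sg A` -/
theorem sg_U (v : V) : sg ρ U v = sg ρ W (sg ρ A v) := by
  refine sg_mul ρ D.VU D.AU (by rw [inf_comm]; exact D.inf) (fun u hu => ?_) v
  obtain ⟨a, ha, w, hw, rfl⟩ := D.dec u hu
  exact ⟨a * w * a⁻¹, D.AV a ha w hw, a, ha, by group⟩

theorem sg_U' (v : V) : sg ρ U v = sg ρ A (sg ρ W v) :=
  sg_mul ρ D.AU D.VU D.inf D.dec v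

theorem rho_sgU {t : Y} (ht : t ∈ T) (v : V) : ρ t (sg ρ U v) = sg ρ U (ρ t v) := by
  have h1 : U.map (MulAut.conj t).toMonoidHom = U := by
    have key : ∀ s ∈ T, ∀ u ∈ U, s * u * s⁻¹ ∈ U := by
      intro s hs u hu
      obtain ⟨a, ha, w, hw, rfl⟩ := D.dec u hu
      have e : s * (a * w) * s⁻¹ = (s * a * s⁻¹) * (s * w * s⁻¹) := by group
      rw [e]
      exact mul_mem (D.AU (D.TA s hs a ha)) (D.VU (D.TV s hs w hw))
    refine map_conj_eq (key t ht) fun b hb => ?_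
    have := key t⁻¹ (inv_mem ht) b hb
    rwa [inv_inv] at this
  rw [rho_sg, h1]

/-- **the longest word** -/
theorem w0_mem {p : ℕ} [Fact p.Prime] [CharP k p] (hp : IsPGroup p A') (hne : A' ≠ ⊥) {g : Y}
    (hg : ∀ b ∈ A', g⁻¹ * b * g ∈ U) {x : V} (hx : x ∈ fx ρ U) {L : Submodule k V} (hL : Ivt ρ T L)
    (hm : sg ρ U (ρ g x) ∈ L) : tt ρ A n (sg ρ U (ρ g x)) ∈ L := by
  classical
  let _ := Fintype.ofFinite A
  have hW : W.map (MulAut.conj n).toMonoidHom = W := map_conj_eq D.nV D.nV'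
  have e1 : tt ρ A n (sg ρ U (ρ g x)) = ∑ a : A, sg ρ U (ρ n (ρ (a : Y) (ρ g x))) := by
    rw [tt_apply, D.sg_U, rho_sg, hW, ← D.sg_U', sg_def ρ A, map_sum, map_sum]
  rw [e1]
  refine L.sum_mem fun a _ => ?_
  by_cases ha1 : (a : Y) = 1
  · have hA : A'.map (MulAut.conj n).toMonoidHom = A := map_conj_eq D.nA' D.nAi
    have hz : sg ρ A' (ρ g x) = 0 := by
      have h2 : ((A'.map (MulAut.conj g⁻¹).toMonoidHom).map (MulAut.conj g).toMonoidHom) = A' := by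
        refine map_conj_eq ?_ ?_
        · rintro _ ⟨b, hb, rfl⟩
          change g * (g⁻¹ * b * g⁻¹⁻¹) * g⁻¹ ∈ A'
          have e0 : g * (g⁻¹ * b * g⁻¹⁻¹) * g⁻¹ = b := by group
          rwa [e0]
        · intro b hb
          refine ⟨b, hb, ?_⟩
          change g⁻¹ * b * g⁻¹⁻¹ = g⁻¹ * b * g
          rw [inv_inv]
      have h3 : ρ g (sg ρ (A'.map (MulAut.conj g⁻¹).toMonoidHom) x) = sg ρ A' (ρ g x) := by
        rw [rho_sg, h2]
      rw [← h3, sg_fixed ρ (p := p), map_zero]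
      · have : Nat.card (A'.map (MulAut.conj g⁻¹).toMonoidHom) = Nat.card A' :=
          Nat.card_congr (A'.equivMapOfInjective _ (MulAut.conj g⁻¹).injective).toEquiv.symm
        rw [this]
        exact p_dvd hp hne
      · rintro _ ⟨b, hb, rfl⟩
        refine hx _ ?_
        have := hg b hb
        change g⁻¹ * b * g⁻¹⁻¹ ∈ U
        rwa [inv_inv]
    rw [ha1, rho_one, D.sg_U, ← hA, ← rho_sg, hz, map_zero, map_zero]
    exact L.zero_mem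
  · obtain ⟨y, hy, t, ht, b, hb, e⟩ := D.rk a a.2 ha1
    have e2 : n * (a : Y) * g = (n * y * n⁻¹) * ((n * t * n⁻¹) * (g * (g⁻¹ * (n * b * n⁻¹) * g))) := by
      have : (a : Y) = y * t * b * n⁻¹ := by rw [← e]; group
      rw [this]; group
    rw [← rho_mul, ← rho_mul, e2, rho_mul, sg_rho_of_mem ρ _ (D.AU (D.nA' y hy)), rho_mul,
      rho_mul ρ g, hx _ (hg _ (D.nA b hb)), ← D.rho_sgU ρ (D.nT t ht)]
    exact hL _ (D.nT t ht) _ hm

/-- `n N ⊆ k[A'] N` -/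
theorem n_mem {N : Submodule k V} (hN : Simp ρ T N) (hU : N ≤ fx ρ U) (hc : ∀ v ∈ N, tt ρ A n v ∈ N) {m : V}
    (hm : m ∈ N) : ρ n m ∈ Sp ρ A' N := by
  classical
  let _ := Fintype.ofFinite A
  have hmap : N.map (tt ρ A n) ≤ N := by
    rintro _ ⟨v, hv, rfl⟩
    exact hc v hv
  rcases hN.simple _ hmap (by
    rintro t ht _ ⟨v, hv, rfl⟩
    rw [D.rho_tt ρ ht]
    exact ⟨_, hN.inv _ (D.nT' t ht) v hv, rfl⟩) with h0 | h0
  · have hz : tt ρ A n m = 0 := by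
      rw [← Submodule.mem_bot k, ← h0]
      exact ⟨m, hm, rfl⟩
    have hterm : ∀ x : A, x ≠ 1 → ρ (x : Y) (ρ n m) ∈ Sp ρ A' N := by
      intro x hx
      obtain ⟨y, hy, t, ht, b, hb, e⟩ := D.rk x x.2 (fun h => hx (Subtype.ext h))
      rw [← rho_mul, e, rho_mul, D.A_fix ρ (hU hm) hb, rho_mul]
      exact mem_Sp ρ hy (hN.inv t ht m hm)
    rw [tt_apply, sg_def, ← Finset.add_sum_erase _ _ (Finset.mem_univ (1 : A)), Subgroup.coe_one,
      rho_one] at hz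
    have h1 : ρ n m = - ∑ x ∈ Finset.univ.erase (1 : A), ρ (x : Y) (ρ n m) :=
      eq_neg_of_add_eq_zero_left hz
    rw [h1]
    refine Submodule.neg_mem _ (Submodule.sum_mem _ fun x hx => hterm x (Finset.ne_of_mem_erase hx))
  · have h1 : ∀ v ∈ N, ρ n⁻¹ v ∈ Sp ρ A' N := by
      intro v hv
      rw [← h0] at hv
      obtain ⟨v', hv', rfl⟩ := hv
      rw [tt_apply, sg_def, map_sum]
      refine Submodule.sum_mem _ fun x _ => ?_
      rw [← rho_mul, ← rho_mul]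
      exact mem_Sp ρ (D.nAi _ x.2) hv'
    have h3 : ρ n m = ρ n⁻¹ (ρ (n * n) m) := by
      rw [← rho_mul]
      congr 2
      group
    rw [h3]
    exact h1 _ (hN.inv _ D.nn m hm)

end Nd

/-- **`k[U'] N` is `n`-invariant.** -/
theorem stable {T U U' A A' W W' : Subgroup Y} {n : Y} (D : Nd T U A A' W n) (D' : Nd T U' A' A W' n)
    {N : Submodule k V} (hN : Simp ρ T N) (hU : N ≤ fx ρ U) (hc : ∀ v ∈ N, tt ρ A n v ∈ N) {v : V}
    (hv : v ∈ Sp ρ U' N) : ρ n v ∈ Sp ρ U' N := by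
  have hA : ∀ w ∈ Sp ρ A' N, w ∈ Sp ρ U' N := fun w hw => Sp_mono ρ D'.AU N hw
  induction hv using Submodule.span_induction with
  | mem x hx =>
    obtain ⟨u, hu, m, hm, rfl⟩ := hx
    obtain ⟨a, ha, w, hw, rfl⟩ := D'.dec u hu
    have e : n * (a * w) = (n * (a * w * a⁻¹) * n⁻¹) * (n * a) := by group
    rw [← rho_mul, e, rho_mul]
    refine rho_mem_Sp ρ (D'.VU (D'.nV _ (D'.AV a ha w hw))) ?_
    by_cases ha1 : a = 1
    · rw [ha1, mul_one]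
      exact hA _ (D.n_mem ρ hN hU hc hm)
    · have h1 : n * a * n⁻¹ ≠ 1 := by
        intro h
        apply ha1
        have : a = n⁻¹ * (n * a * n⁻¹) * n := by group
        rw [this, h]; group
      obtain ⟨y, hy, t, ht, b, hb, e⟩ := D.rk _ (D.nA' a ha) h1
      have e3 : n * a = y * t * b := by rw [← e]; group
      rw [e3, rho_mul, D.A_fix ρ (hU hm) hb, rho_mul]
      exact hA _ (mem_Sp ρ hy (hN.inv t ht m hm))
  | zero => rw [map_zero]; exact Submodule.zero_mem _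
  | add x y _ _ hx hy => rw [map_add]; exact Submodule.add_mem _ hx hy
  | smul c x _ hx => rw [map_smul]; exact Submodule.smul_mem _ _ hx

end Cfsg.Agent.Omega.CR.Dih
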